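/-
Quasisimplicity criterion for groups generated by abstract root subgroups (helper734, S5033).
-/
import Cfsg.Agent.H734.NatModule
import Cfsg.Agent.H732.SpecialAb
import Cfsg.Agent.SignalizersComponents.QsBasic
set_option linter.all false

set_option autoImplicit false
open Cfsg Cfsg.Agent.H731 Cfsg.Agent.H733

namespace Cfsg.Agent.H734

variable {G : Type*} [Group G] {S : Set (Subgroup G)} {A B D E F : Subgroup G}

theorem conjBy_normal (N : Subgroup G) [hN : N.Normal] (g : G) : conjBy N g = N := by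
  ext x
  rw [mem_conjBy]
  constructor
  · intro h
    have := hN.conj_mem _ h g
    simpa [mul_assoc] using this
  · intro h
    have := hN.conj_mem _ h g⁻¹
    simpa [mul_assoc] using this

section setS

variable (hS : IsRootSubgroupSet S)
include hS

/-- If `N` is normal and meets a member non-trivially then `N A = G` (connected `S`). -/
theorem sup_eq_top_of_inf_ne_bot (hc : IsConnectedFamily (FAdj S) S) {N : Subgroup G} [hN : N.Normal]
    (hA : A ∈ S) (hNA : N ⊓ A ≠ ⊥) : N ⊔ A = ⊤ := by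
  have hall : ∀ C ∈ S, N ⊓ C ≠ ⊥ := by
    intro C hC
    obtain ⟨g, rfl⟩ := reach_exists_conj' (hc A hA C hC)
    intro h1
    apply hNA
    rw [← conjBy_eq_bot (g := g), conjBy_inf, conjBy_normal]
    exact h1
  have hstep : ∀ C D : Subgroup G, FAdj S C D → D ≤ N ⊔ C := by
    rintro C D ⟨hC, hD, h⟩
    have h1 : ∀ x ∈ C ⊔ D, conjBy (N ⊓ (C ⊔ D)) x = N ⊓ (C ⊔ D) := by
      intro x hx
      rw [conjBy_inf, conjBy_normal, conjBy_of_mem hx]
    rcases rankOne_dichotomy h inf_le_right h1 with h2 | h2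
    · calc D ≤ C ⊔ D := le_sup_right
        _ = N ⊓ (C ⊔ D) ⊔ C := h2.symm
        _ ≤ N ⊔ C := sup_le_sup_right inf_le_left C
    · exfalso
      apply hall C hC
      rw [Subgroup.eq_bot_iff_forall]
      rintro x ⟨hxN, hxC⟩
      exact rankOne_centralizer_inf h (left_mem_unipotentSubgroups C D) hxC
        (h2 ⟨hxN, Subgroup.mem_sup_left hxC⟩)
  refine le_of_forall_member hS fun C hC => ?_
  have hreach := hc A hA C hC
  clear hC
  induction hreach with
  | refl => exact le_sup_right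
  | tail _ h2 ih => exact (hstep _ _ h2).trans (sup_le le_sup_left ih)

omit hS in
theorem commutator_le_of_sup_eq_top {N : Subgroup G} [hN : N.Normal] (hA : IsMulCommutative A)
    (h : N ⊔ A = ⊤) : commutator G ≤ N := by
  rw [commutator_def, ← h]
  have hAN : ∀ U : Subgroup G, U ≤ Subgroup.normalizer (N : Set G) := fun U =>
    le_normalizer_of_conjBy fun g _ => conjBy_normal N g
  have hAA : ⁅A, A⁆ = ⊥ := Subgroup.commutator_self_eq_bot_iff.2 hA
  rw [Subgroup.commutator_le]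
  intro x hx y hy
  rw [commutatorElement_def]
  have hx' : x ∈ ((A ⊔ N : Subgroup G) : Set G) := by rw [sup_comm]; exact hx
  have hy' : y ∈ ((A ⊔ N : Subgroup G) : Set G) := by rw [sup_comm]; exact hy
  rw [Subgroup.coe_mul_of_left_le_normalizer_right A N (hAN A)] at hx' hy'
  obtain ⟨a, ha, n, hn, rfl⟩ := hx'
  obtain ⟨b, hb, m, hm, rfl⟩ := hy'
  have hab : a * b = b * a := by
    have := hA.is_comm.comm ⟨a, ha⟩ ⟨b, hb⟩
    exact congrArg Subtype.val this
  rw [← QuotientGroup.eq_one_iff]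
  have hn' : (QuotientGroup.mk n : G ⧸ N) = 1 := (QuotientGroup.eq_one_iff n).2 hn
  have hm' : (QuotientGroup.mk m : G ⧸ N) = 1 := (QuotientGroup.eq_one_iff m).2 hm
  simp only [QuotientGroup.mk_mul, QuotientGroup.mk_inv, hn', hm', mul_one]
  rw [← QuotientGroup.mk_mul, hab, QuotientGroup.mk_mul]
  simp

/-- The hypothesis under which normal subgroups are controlled: each normal subgroup meeting no member meets each rank
one group in a central subgroup. -/
def RankOneCentral (S : Set (Subgroup G)) (N : Subgroup G) : Prop :=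
  ∀ A ∈ S, ∀ B ∈ S, IsRankOnePair A B → N ⊓ (A ⊔ B) ≤ Subgroup.centralizer ((A ⊔ B : Subgroup G) : Set G)

theorem rankOneCentral_of_card (h3 : ∀ A ∈ S, 3 < ENat.card A)
    (h4 : ∀ A ∈ S, ∀ B ∈ rankOnePartners S A, IsSpecialRankOnePair A B)
    {N : Subgroup G} [hN : N.Normal] (hNA : ∀ A ∈ S, N ⊓ A = ⊥) : RankOneCentral S N := by
  intro A hA B hB h
  have h1 : ∀ x ∈ A ⊔ B, conjBy (N ⊓ (A ⊔ B)) x = N ⊓ (A ⊔ B) := by
    intro x hx
    rw [conjBy_inf, conjBy_normal, conjBy_of_mem hx]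
  rcases rankOne_dichotomy h inf_le_right h1 with h2 | h2
  · exfalso
    have hsp := h4 A hA B ⟨hB, h⟩
    have hAeq := H732.commDiag_eq hsp (hS.commutative A hA) (h3 A hA)
    obtain ⟨a, ha, ha1⟩ := member_exists_ne_one hS hA
    have hAle : A ≤ N := by
      have h5 : ⁅A, rankOneDiagonal A B⁆ ≤ N := by
        rw [Subgroup.commutator_le]
        intro x hx y hy
        have hy' : y ∈ N ⊓ (A ⊔ B) ⊔ A := by rw [h2]; exact hy.1.1
        have hAN : A ≤ Subgroup.normalizer ((N ⊓ (A ⊔ B) : Subgroup G) : Set G) :=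
          le_normalizer_of_conjBy fun g hg => h1 g (Subgroup.mem_sup_left hg)
        have hy'' : y ∈ ((A ⊔ N ⊓ (A ⊔ B) : Subgroup G) : Set G) := by rw [sup_comm]; exact hy'
        rw [Subgroup.coe_mul_of_left_le_normalizer_right A _ hAN] at hy''
        obtain ⟨b, hb, m, hm, rfl⟩ := hy''
        have hab := member_comm hS hA hx hb
        rw [commutatorElement_def, ← QuotientGroup.eq_one_iff]
        have hm' : (QuotientGroup.mk m : G ⧸ N) = 1 := (QuotientGroup.eq_one_iff m).2 hm.1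
        simp only [QuotientGroup.mk_mul, QuotientGroup.mk_inv, hm', mul_one]
        rw [← QuotientGroup.mk_mul, hab, QuotientGroup.mk_mul]
        simp
      rw [← hAeq]
      exact h5
    have h6 : a ∈ N ⊓ A := ⟨hAle ha, ha⟩
    rw [hNA A hA] at h6
    exact ha1 (Subgroup.mem_bot.1 h6)
  · exact h2

theorem rankOneCentral_of_natModule (hM : ∀ A ∈ S, ∀ B ∈ S, IsRankOnePair A B → ∃ E F : Subgroup G, IsNatModule S A B E F)
    {N : Subgroup G} [hN : N.Normal] (hNA : ∀ A ∈ S, N ⊓ A = ⊥) : RankOneCentral S N := by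
  intro A hA B hB h
  have h1 : ∀ x ∈ A ⊔ B, conjBy (N ⊓ (A ⊔ B)) x = N ⊓ (A ⊔ B) := by
    intro x hx
    rw [conjBy_inf, conjBy_normal, conjBy_of_mem hx]
  rcases rankOne_dichotomy h inf_le_right h1 with h2 | h2
  · exfalso
    obtain ⟨E, F, hEF⟩ := hM A hA B hB h
    obtain ⟨b, hb, hb1⟩ := member_exists_ne_one hS hB
    obtain ⟨f, hf, hf1⟩ := member_exists_ne_one hS hEF.memF
    have hb' : b ∈ N ⊓ (A ⊔ B) ⊔ A := by rw [h2]; exact Subgroup.mem_sup_right hb
    have hAN : A ≤ Subgroup.normalizer ((N ⊓ (A ⊔ B) : Subgroup G) : Set G) :=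
      le_normalizer_of_conjBy fun g hg => h1 g (Subgroup.mem_sup_left hg)
    have hb'' : b ∈ ((N ⊓ (A ⊔ B) ⊔ A : Subgroup G) : Set G) := hb'
    rw [Subgroup.coe_mul_of_right_le_normalizer_left _ A hAN] at hb''
    obtain ⟨n, hn, a, ha, hna⟩ := hb''
    have hna' : n * a = b := hna
    have hn' : n = b * a⁻¹ := by rw [← hna']; simp
    have hfa : a⁻¹ * f * a = f := by rw [mul_assoc, hEF.commFA hf ha]; simp
    have h3 : n * (f * n⁻¹ * f⁻¹) ∈ N := N.mul_mem hn.1 (hN.conj_mem _ (N.inv_mem hn.1) f)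
    have h4 : n * (f * n⁻¹ * f⁻¹) = b * f * b⁻¹ * f⁻¹ := by
      have h5 : n * (f * n⁻¹ * f⁻¹) = b * (a⁻¹ * f * a) * b⁻¹ * f⁻¹ := by rw [hn']; simp [mul_assoc]
      rw [h5, hfa]
    have h5 : n * (f * n⁻¹ * f⁻¹) ∈ E := by
      rw [h4, ← hEF.eqE, Subgroup.commutator_comm]
      exact comm_mem hb hf
    have h6 : n * (f * n⁻¹ * f⁻¹) ∈ N ⊓ E := ⟨h3, h5⟩
    rw [hNA E hEF.memE, Subgroup.mem_bot, h4] at h6
    have h7 : f * b = b * f := by
      have h8 : (b * f * b⁻¹ * f⁻¹) * f * b = 1 * f * b := by rw [h6]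
      simpa [mul_assoc] using h8.symm
    rcases rcc_commute_elem' hS hB ⟨A, hA, RankOnePair_symm h⟩ hEF.rccF hf hb h7 with h8 | h8
    · exact hf1 h8
    · exact hb1 h8
  · exact h2

/-- Commuting with `A` is inherited by the conjugates of `A` under `N`. -/
theorem comm_conj_of_comm (hF : ∀ A ∈ S, ∃ B ∈ S, IsRankOnePair A B) {N : Subgroup G} [hN : N.Normal]
    (hNA : ∀ A ∈ S, N ⊓ A = ⊥) (hcen : RankOneCentral S N) (hA : A ∈ S) {n : G} (hn : n ∈ N) (hD : D ∈ S)
    (hDA : ⁅D, A⁆ = ⊥) : ⁅D, conjBy A n⁆ = ⊥ := by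
  have hAn : conjBy A n ∈ S := hS.conj_mem A hA n
  have hDA' := commutator_eq_bot_iff_forall.1 hDA
  have key : ∀ d ∈ D, ∀ a ∈ conjBy A n, d * a * d⁻¹ * a⁻¹ ∈ N := by
    intro d hd a ha
    rw [mem_conjBy] at ha
    have h1 := hDA' d hd _ ha
    have hy : d * (n * d⁻¹ * n⁻¹) ∈ N := by
      have h2 : d * (n * d⁻¹ * n⁻¹) = (d * n * d⁻¹) * n⁻¹ := by simp [mul_assoc]
      rw [h2]
      exact N.mul_mem (hN.conj_mem _ hn d) (N.inv_mem hn)
    have h2 : (d * (n * d⁻¹ * n⁻¹)) * a * (d * (n * d⁻¹ * n⁻¹))⁻¹ = d * a * d⁻¹ := by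
      have h3 : (n * d⁻¹ * n⁻¹) * a * (n * d⁻¹ * n⁻¹)⁻¹ = a := by
        have h4 : (n * d⁻¹ * n⁻¹) * a * (n * d⁻¹ * n⁻¹)⁻¹ = n * (d⁻¹ * ((n⁻¹ * a * n) * d)) * n⁻¹ := by
          simp [mul_assoc]
        rw [h4, ← h1]
        simp [mul_assoc]
      calc (d * (n * d⁻¹ * n⁻¹)) * a * (d * (n * d⁻¹ * n⁻¹))⁻¹
          = d * ((n * d⁻¹ * n⁻¹) * a * (n * d⁻¹ * n⁻¹)⁻¹) * d⁻¹ := by simp only [mul_inv_rev, mul_assoc]
        _ = d * a * d⁻¹ := by rw [h3]
    have h3 : (d * (n * d⁻¹ * n⁻¹)) * (a * (d * (n * d⁻¹ * n⁻¹))⁻¹ * a⁻¹) ∈ N :=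
      N.mul_mem hy (hN.conj_mem _ (N.inv_mem hy) a)
    have h4 : (d * (n * d⁻¹ * n⁻¹)) * (a * (d * (n * d⁻¹ * n⁻¹))⁻¹ * a⁻¹) = d * a * d⁻¹ * a⁻¹ := by
      rw [← h2]; simp only [mul_assoc]
    rwa [h4] at h3
  obtain ⟨d, hd, hd1⟩ := member_exists_ne_one hS hD
  obtain ⟨a, ha, ha1⟩ := member_exists_ne_one hS hAn
  rcases hS.pair D hD _ hAn with h1 | h1 | h1
  · exact h1
  · exfalso
    have h2 : d * a * d⁻¹ * a⁻¹ ∈ N ⊓ (D ⊔ conjBy A n) :=
      ⟨key d hd a ha, Subgroup.commutator_le_sup _ _ (comm_mem hd ha)⟩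
    have h3 := (mem_centralizer_sup.1 (hcen D hD _ hAn h1 h2)).2 a ha
    exact rankOne_comm_not_comm hS hAn h1 hd hd1 ha ha1 ha ha1 h3
  · exfalso
    have h2 : d * a * d⁻¹ * a⁻¹ ∈ N ⊓ ⁅D, conjBy A n⁆ := ⟨key d hd a ha, comm_mem hd ha⟩
    rw [hNA _ h1.1, Subgroup.mem_bot] at h2
    have h3 : d * a = a * d := by
      have h4 : (d * a * d⁻¹ * a⁻¹) * a * d = 1 * a * d := by rw [h2]
      simpa [mul_assoc] using h4
    rcases rcc_commute_elem hS hD (hF D hD) h1 hd ha h3 with h4 | h4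
    · exact hd1 h4
    · exact ha1 h4

/-- A normal subgroup meeting all members trivially is central. -/
theorem le_center_of_inf_eq_bot (hF : ∀ A ∈ S, ∃ B ∈ S, IsRankOnePair A B)
    (h2' : ∀ A ∈ S, ∀ C ∈ S, A ≠ C → centralizingMembers S A ≠ centralizingMembers S C)
    {N : Subgroup G} [hN : N.Normal]
    (hNA : ∀ A ∈ S, N ⊓ A = ⊥) (hcen : RankOneCentral S N) : N ≤ Subgroup.center G := by
  have hfix : ∀ A ∈ S, ∀ n ∈ N, conjBy A n = A := by
    intro A hA n hn
    by_contra hne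
    have hAn : conjBy A n ∈ S := hS.conj_mem A hA n
    apply h2' _ hAn A hA hne
    have hiff : ∀ C D : Subgroup G, (D ≤ Subgroup.centralizer (C : Set G)) ↔ ⁅D, C⁆ = ⊥ := fun C D =>
      (Subgroup.commutator_eq_bot_iff_le_centralizer).symm
    ext D
    unfold centralizingMembers
    simp only [Set.mem_ofPred_eq]
    rw [hiff, hiff]
    constructor
    · rintro ⟨hD, h1⟩
      refine ⟨hD, ?_⟩
      have := comm_conj_of_comm hS hF hNA hcen hAn (N.inv_mem hn) hD h1
      rwa [conjBy_conjBy, inv_mul_cancel, conjBy_one] at this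
    · rintro ⟨hD, h1⟩
      exact ⟨hD, comm_conj_of_comm hS hF hNA hcen hA hn hD h1⟩
  intro n hn
  refine mem_center_of_forall hS fun A hA a ha => ?_
  have h1 : n * a * n⁻¹ * a⁻¹ ∈ N ⊓ A := by
    constructor
    · have h2 : n * a * n⁻¹ * a⁻¹ = n * (a * n⁻¹ * a⁻¹) := by simp [mul_assoc]
      rw [h2]
      exact N.mul_mem hn (hN.conj_mem _ (N.inv_mem hn) a)
    · refine A.mul_mem ?_ (A.inv_mem ha)
      have := conj_mem_conjBy ha n
      rwa [hfix A hA n hn] at this
  rw [hNA A hA, Subgroup.mem_bot] at h1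
  have h3 : (n * a * n⁻¹ * a⁻¹) * a * n = 1 * a * n := by rw [h1]
  simpa [mul_assoc] using h3

end setS


/-- A group which is perfect, non-abelian and in which each normal subgroup is central or everything is quasisimple. -/
theorem isQuasisimple_of_normal (hperf : commutator G = ⊤) (hne : Subgroup.center G ≠ ⊤)
    (hN : ∀ N : Subgroup G, N.Normal → N ≤ Subgroup.center G ∨ N = ⊤) : IsQuasisimple G := by
  refine ⟨Group.isPerfect_def.2 hperf, ?_⟩
  have hnt : Nontrivial (G ⧸ Subgroup.center G) := by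
    rw [QuotientGroup.nontrivial_iff]
    exact hne
  refine ⟨fun K hK => ?_⟩
  have hKc : (K.comap (QuotientGroup.mk' (Subgroup.center G))).Normal := hK.comap _
  rcases hN _ hKc with h1 | h1
  · left
    rw [Subgroup.eq_bot_iff_forall]
    intro x hx
    obtain ⟨g, rfl⟩ := QuotientGroup.mk'_surjective (Subgroup.center G) x
    have h2 : g ∈ Subgroup.center G := h1 hx
    exact (QuotientGroup.eq_one_iff g).2 h2
  · right
    rw [eq_top_iff]
    intro x _
    obtain ⟨g, rfl⟩ := QuotientGroup.mk'_surjective (Subgroup.center G) x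
    have h2 : g ∈ K.comap (QuotientGroup.mk' (Subgroup.center G)) := by rw [h1]; exact Subgroup.mem_top g
    exact h2

/-- The criterion. -/
theorem quasisimple_main {S : Set (Subgroup G)} (hS : IsRootSubgroupSet S) (h2 : ∃ A ∈ S, ∃ B ∈ S, A ≠ B)
    (h1 : IsConnectedFamily (FAdj S) S)
    (h2' : ∀ A ∈ S, ∀ C ∈ S, A ≠ C → centralizingMembers S A ≠ centralizingMembers S C)
    (h3 : IsDegenerateRootSet S → ∀ A ∈ S, 3 < ENat.card A)
    (h4 : ∀ A ∈ S, ∀ B ∈ rankOnePartners S A, IsSpecialRankOnePair A B) :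
    commutator G = ⊤ ∧ IsQuasisimple G := by
  obtain ⟨hcl, hP⟩ := class_of_connected h2 h1
  have hF : ∀ A ∈ S, ∃ B ∈ S, IsRankOnePair A B := fun A hA => class_exists_partner hS hcl hP hA
  -- each member lies in the commutator subgroup
  have hmem : ∀ A ∈ S, A ≤ commutator G := by
    intro A hA
    by_cases hdeg : IsDegenerateRootSet S
    · obtain ⟨B, hB, h⟩ := hF A hA
      rw [← H732.commDiag_eq (h4 A hA B ⟨hB, h⟩) (hS.commutative A hA) (h3 hdeg A hA), commutator_def]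
      exact Subgroup.commutator_mono le_top le_top
    · unfold IsDegenerateRootSet at hdeg
      push Not at hdeg
      obtain ⟨X, hX, Y, hY, hXY⟩ := hdeg
      obtain ⟨g, hg⟩ := hcl.2 _ hXY.1 A hA
      rw [hg, conjBy_commutator, commutator_def]
      exact Subgroup.commutator_mono le_top le_top
  have hperf : commutator G = ⊤ := le_of_forall_member hS hmem
  refine ⟨hperf, isQuasisimple_of_normal hperf ?_ ?_⟩
  · intro htop
    obtain ⟨A, hA, B, hB, h⟩ := hP
    apply rankOne_not_commute h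
    rw [commutator_eq_bot_iff_forall]
    intro a _ b _
    have : b ∈ Subgroup.center G := by rw [htop]; exact Subgroup.mem_top b
    exact Subgroup.mem_center_iff.1 this a
  · intro N hN
    by_cases hcase : ∃ A ∈ S, N ⊓ A ≠ ⊥
    · right
      obtain ⟨A, hA, hNA⟩ := hcase
      have h5 := sup_eq_top_of_inf_ne_bot hS h1 hA hNA
      have h6 := commutator_le_of_sup_eq_top (hS.commutative A hA) h5
      rw [hperf] at h6
      exact top_le_iff.1 h6
    · left
      push Not at hcase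
      have hcen : RankOneCentral S N := by
        by_cases hdeg : IsDegenerateRootSet S
        · exact rankOneCentral_of_card hS (h3 hdeg) h4 hcase
        · unfold IsDegenerateRootSet at hdeg
          push Not at hdeg
          exact rankOneCentral_of_natModule hS
            (fun A hA B hB h => exists_natModule_of_class hS hcl hP hdeg hA hB h) hcase
      exact le_center_of_inf_eq_bot hS hF h2' hcase hcen

end Cfsg.Agent.H734
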